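import Cfsg.Agent.Helper5.PsuE2.Defs

/-!
# S2089, the odd specials `(5,2)`, `(7,2)`: ABSTRACT version of helper5's block I-even-2 (definitions)

helper5's `Cfsg.Agent.Helper5.PsuE2` builds, for `G = SUe m σ = SU_{2m}(2)` (`m ≥ 4`) and a central extension
`τ : Γ →* G` with kernel of order `2` and abelian preimage of `Qsub`, a complement to the kernel in that
preimage, invariant under the torus and the Levi root elements.  The group-theoretic part of that argument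
uses the model only through the Prop-structure `RootFacts`.  Here the model is replaced by abstract data
`RootData G K m` (an abelian subgroup `Q`, a torus `T`, elements `x a b t`, `z a c`, `c a b u`), so that the
same argument applies to `Z(Q)` inside `SU_{2m+1}(2)` (`m = 2, 3`), where the torus is free and
`RootFacts` holds for all `m ≥ 2`.

Everything is the verbatim abstract twin of `Cfsg/Agent/Helper5/PsuE2/Defs.lean`
(`xE σ ↦ D.x`, `zE σ ↦ D.z`, `cE σ ↦ D.c`, `Qsub m σ ↦ D.Q`, `Tsub m σ ↦ D.T`, `SUe m σ ↦ G`).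
`F4Facts` and `f4Facts` are taken from helper5's file.  In all definitions and lemmas below the data `D` is the
FIRST EXPLICIT argument (`Csh D τ`, `cT D τ a b u`, `zt D τ hτ a b`, `Ext2 D τ hτ`, `LiftFacts D τ hτ`,
`ZFacts D τ hτ zT`, `Cq D τ zT`).
-/

set_option autoImplicit false
set_option linter.unusedSectionVars false

namespace Cfsg.Agent.Helper23.PsuOs

open scoped commutatorElement
open Cfsg.Agent.Helper96.StLift
open Cfsg.Agent.Helper5.PsuE2 (F4Facts f4Facts)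

universe u

/-- abstract root data: an abelian subgroup `Q`, a torus `T`, "Levi root elements" `x a b t`, "long root
elements" `z a c` and "short root elements" `c a b u` of `Q` -/
structure RootData (G : Type u) [Group G] (K : Type u) (m : ℕ) where
  /-- the abelian subgroup -/
  Q : Subgroup G
  /-- the torus -/
  T : Subgroup G
  /-- the root elements of the Levi subgroup -/
  x : Fin m → Fin m → K → G
  /-- the long root elements of `Q` -/
  z : Fin m → K → G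
  /-- the short root elements of `Q` -/
  c : Fin m → Fin m → K → G

variable {K : Type u} [Field K] {G : Type u} [Group G] {m : ℕ}

/-- the part of the torus centralising the root subgroup `{x a b t}` -/
def Tij (D : RootData G K m) (i j : Fin m) : Subgroup G :=
  D.T ⊓ Subgroup.centralizer (Set.range (D.x i j))

/-- the Weyl element exchanging the indices `b` and `c` (a permutation matrix in characteristic `2`) -/
def nE (D : RootData G K m) (b c : Fin m) : G :=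
  D.x b c 1 * D.x c b 1 * D.x b c 1

/-- what is used of the data (`K = F_4`, `σ x = x ^ 2`) -/
structure RootFacts (σ : K →+* K) (D : RootData G K m) : Prop where
  /-- membership and normalisation -/
  z_mem : ∀ i : Fin m, D.z i 1 ∈ D.Q
  c_mem : ∀ i j : Fin m, i ≠ j → ∀ u : K, D.c i j u ∈ D.Q
  x_norm : ∀ (i j : Fin m) (t : K), ∀ y ∈ D.Q, D.x i j t * y * (D.x i j t)⁻¹ ∈ D.Q
  T_norm : ∀ h ∈ D.T, ∀ y ∈ D.Q, h * y * h⁻¹ ∈ D.Q
  Q_comm : ∀ x ∈ D.Q, ∀ y ∈ D.Q, Commute x y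
  T_odd : (Nat.card (D.T)).Coprime 2
  /-- generation -/
  Q_le : D.Q ≤ Subgroup.closure (Set.range (fun i : Fin m => D.z i 1) ∪
    {g | ∃ i j : Fin m, i ≠ j ∧ ∃ u : K, g = D.c i j u})
  /-- parametrisations -/
  c_add : ∀ i j : Fin m, i ≠ j → ∀ u u' : K, D.c i j (u + u') = D.c i j u * D.c i j u'
  c_symm : ∀ i j : Fin m, i ≠ j → ∀ u : K, D.c j i u = D.c i j (σ u)
  x_add : ∀ (i j : Fin m) (t t' : K), D.x i j (t + t') = D.x i j t * D.x i j t'
  x_zero : ∀ i j : Fin m, D.x i j 0 = 1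
  z_zero : ∀ i : Fin m, D.z i 0 = 1
  /-- the action of the root elements of the Levi subgroup -/
  x_z : ∀ i j : Fin m, i ≠ j → ∀ t : K, t ≠ 0 →
    D.x i j t * D.z j 1 * (D.x i j t)⁻¹ = D.c i j t * D.z i 1 * D.z j 1
  x_z_comm : ∀ i j l : Fin m, i ≠ j → l ≠ j → ∀ t : K, Commute (D.x i j t) (D.z l 1)
  x_c : ∀ i j : Fin m, i ≠ j → ∀ t u : K,
    D.x i j t * D.c i j u * (D.x i j t)⁻¹ = D.c i j u * D.z i (t * σ u + σ t * u)
  /-- the torus -/
  T_z : ∀ h ∈ D.T, ∀ i : Fin m, Commute h (D.z i 1)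
  T_ab : ∀ a b : Fin m, a ≠ b → ∀ t : K, t ≠ 0 → ∃ h ∈ D.T,
    h * D.x a b 1 * h⁻¹ = D.x a b t ∧ h * D.c a b 1 * h⁻¹ = D.c a b t
  T_kill : ∀ a b : Fin m, a ≠ b → ∃ h ∈ D.T, ∃ w : K, w ≠ 1 ∧
    ∀ t : K, h * D.x a b t * h⁻¹ = D.x a b (w * t)
  c_mem_comm : ∀ i j : Fin m, i ≠ j → ∀ u : K, D.c i j u ∈ ⁅D.Q, D.T⁆
  c_mem_comm_Tij : ∀ a b i j : Fin m, a ≠ b → i ≠ j → ¬ (i = a ∧ j = b) → ¬ (i = b ∧ j = a) →
    ∀ u : K, D.c i j u ∈ ⁅D.Q, Tij D a b⁆
  /-- the Weyl elements -/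
  n_x : ∀ a b c : Fin m, a ≠ b → a ≠ c → b ≠ c → ∀ t : K,
    nE D b c * D.x a b t * (nE D b c)⁻¹ = D.x a c t
  n_z : ∀ b c : Fin m, b ≠ c → nE D b c * D.z b 1 * (nE D b c)⁻¹ = D.z c 1
  n_c : ∀ a b c : Fin m, a ≠ b → a ≠ c → b ≠ c → ∀ u : K,
    nE D b c * D.c a b u * (nE D b c)⁻¹ = D.c a c u
  n_T : ∀ b c : Fin m, b ≠ c → ∀ h ∈ D.T, nE D b c * h * (nE D b c)⁻¹ ∈ D.T
  /-- independence -/
  comm_inf : ⁅D.Q, D.T⁆ ⊓ Subgroup.closure (Set.range fun i : Fin m => D.z i 1) = ⊥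
  z_ind : ∀ (S : Set (Fin m)) (a : Fin m), a ∉ S →
    D.z a 1 ∉ Subgroup.closure ((fun i : Fin m => D.z i 1) '' S)

variable {σ : K →+* K} (D : RootData G K m) {Γ : Type u} [Group Γ]

/-- the hypotheses on the extension -/
structure Ext2 (τ : Γ →* G) (hτ : Function.Surjective τ) : Prop where
  central : τ.ker ≤ Subgroup.center Γ
  card_ker : Nat.card τ.ker = 2
  comm : ∀ a b : Γ, τ a ∈ D.Q → τ b ∈ D.Q → Commute a b

/-- the canonical lift of the short root part of `Qsub` -/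
def Csh (τ : Γ →* G) : Subgroup Γ := ⁅(D.Q).comap τ, (D.T).comap τ⁆

/-- the element of `Csh D τ` above `D.c a b u` (`1` if there is none) -/
noncomputable def cT (τ : Γ →* G) (a b : Fin m) (u : K) : Γ :=
  open Classical in if h : ∃ g ∈ Csh D τ, τ g = D.c a b u then h.choose else 1

/-- the canonical lift of `D.z a 1`, defined through the index `b` -/
noncomputable def zt (τ : Γ →* G) (hτ : Function.Surjective τ) (a b : Fin m) : Γ :=
  lc hτ (D.x a b 1) (D.z b 1) * (cT D τ a b 1)⁻¹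

/-- first consequences for the extension -/
structure LiftFacts (τ : Γ →* G) (hτ : Function.Surjective τ) : Prop where
  /-- (L1) `Q̂` has exponent two -/
  sq_one : ∀ g : Γ, τ g ∈ D.Q → g * g = 1
  /-- (L2) -/
  csh_inf : Csh D τ ⊓ τ.ker = ⊥
  /-- (L3) lifts of torus elements commute with lifts of long root elements -/
  torus_z : ∀ (g y : Γ) (i : Fin m), τ g ∈ D.T → τ y = D.z i 1 → Commute g y
  /-- (L4) lifts of `D.x a b t` commute with lifts of `D.z l 1`, `l ≠ b` -/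
  x_z : ∀ (g y : Γ) (a b l : Fin m) (t : K), a ≠ b → l ≠ b → τ g = D.x a b t → τ y = D.z l 1 →
    Commute g y

/-! ### generic lemmas -/

theorem conj_mem_commutator {X : Type*} [Group X] (H₁ H₂ : Subgroup X) (g : X)
    (h₁ : ∀ x ∈ H₁, g * x * g⁻¹ ∈ H₁) (h₂ : ∀ x ∈ H₂, g * x * g⁻¹ ∈ H₂) :
    ∀ x ∈ ⁅H₁, H₂⁆, g * x * g⁻¹ ∈ ⁅H₁, H₂⁆ := by
  intro x hx
  have h : (⁅H₁, H₂⁆).map (MulAut.conj g).toMonoidHom ≤ ⁅H₁, H₂⁆ := by
    rw [Subgroup.map_commutator]
    apply Subgroup.commutator_mono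
    · rintro _ ⟨y, hy, rfl⟩
      exact h₁ y hy
    · rintro _ ⟨y, hy, rfl⟩
      exact h₂ y hy
  exact h ⟨x, hx, rfl⟩

theorem csh_map (τ : Γ →* G) (hτ : Function.Surjective τ) :
    (Csh D τ).map τ = ⁅D.Q, D.T⁆ := by
  unfold Csh
  rw [Subgroup.map_commutator, Subgroup.map_comap_eq_self_of_surjective hτ,
    Subgroup.map_comap_eq_self_of_surjective hτ]

theorem csh_le (τ : Γ →* G)
    (hT : ∀ h ∈ D.T, ∀ y ∈ D.Q, h * y * h⁻¹ ∈ D.Q) :
    Csh D τ ≤ (D.Q).comap τ := by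
  unfold Csh
  rw [Subgroup.commutator_le]
  intro x hx t ht
  rw [Subgroup.mem_comap] at hx ht ⊢
  rw [commutatorElement_def, map_mul, map_mul, map_mul, map_inv, map_inv]
  have h1 := hT _ ht _ ((D.Q).inv_mem hx)
  have h2 : τ x * τ t * (τ x)⁻¹ * (τ t)⁻¹ = τ x * (τ t * (τ x)⁻¹ * (τ t)⁻¹) := by group
  rw [h2]
  exact (D.Q).mul_mem hx h1

theorem csh_conj (τ : Γ →* G)
    (hT : ∀ h ∈ D.T, ∀ y ∈ D.Q, h * y * h⁻¹ ∈ D.Q) (g : Γ) (hg : τ g ∈ D.T) :
    ∀ c ∈ Csh D τ, g * c * g⁻¹ ∈ Csh D τ := by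
  apply conj_mem_commutator
  · intro x hx
    rw [Subgroup.mem_comap] at hx ⊢
    rw [map_mul, map_mul, map_inv]
    exact hT _ hg _ hx
  · intro x hx
    rw [Subgroup.mem_comap] at hx ⊢
    rw [map_mul, map_mul, map_inv]
    exact (D.T).mul_mem ((D.T).mul_mem hg hx) ((D.T).inv_mem hg)

theorem cT_spec {τ : Γ →* G} {a b : Fin m} {u : K} (h : ∃ g ∈ Csh D τ, τ g = D.c a b u) :
    cT D τ a b u ∈ Csh D τ ∧ τ (cT D τ a b u) = D.c a b u := by
  unfold cT
  rw [dif_pos h]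
  exact h.choose_spec

theorem exists_cT (τ : Γ →* G) (hτ : Function.Surjective τ) (R : RootFacts σ D) {a b : Fin m}
    (hab : a ≠ b) (u : K) : ∃ g ∈ Csh D τ, τ g = D.c a b u := by
  have h := R.c_mem_comm a b hab u
  rw [← csh_map D τ hτ] at h
  exact h

theorem cT_mem (τ : Γ →* G) (hτ : Function.Surjective τ) (R : RootFacts σ D) {a b : Fin m}
    (hab : a ≠ b) (u : K) : cT D τ a b u ∈ Csh D τ :=
  (cT_spec D (exists_cT D τ hτ R hab u)).1

theorem map_cT (τ : Γ →* G) (hτ : Function.Surjective τ) (R : RootFacts σ D) {a b : Fin m}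
    (hab : a ≠ b) (u : K) : τ (cT D τ a b u) = D.c a b u :=
  (cT_spec D (exists_cT D τ hτ R hab u)).2

theorem eq_of_mem_csh {τ : Γ →* G} (hinf : Csh D τ ⊓ τ.ker = ⊥) {g g' : Γ} (hg : g ∈ Csh D τ)
    (hg' : g' ∈ Csh D τ) (h : τ g = τ g') : g = g' := by
  have h1 : g * g'⁻¹ ∈ Csh D τ ⊓ τ.ker := by
    refine Subgroup.mem_inf.mpr ⟨(Csh D τ).mul_mem hg ((Csh D τ).inv_mem hg'), ?_⟩
    rw [MonoidHom.mem_ker, map_mul, map_inv, h, mul_inv_cancel]
  rw [hinf, Subgroup.mem_bot] at h1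
  exact mul_inv_eq_one.mp h1

theorem cT_unique (τ : Γ →* G) (hτ : Function.Surjective τ) (R : RootFacts σ D)
    (hinf : Csh D τ ⊓ τ.ker = ⊥) {a b : Fin m} (hab : a ≠ b) {u : K} {g : Γ} (hg : g ∈ Csh D τ)
    (h : τ g = D.c a b u) : g = cT D τ a b u :=
  eq_of_mem_csh D hinf hg (cT_mem D τ hτ R hab u) (h.trans (map_cT D τ hτ R hab u).symm)


theorem map_zt (τ : Γ →* G) (hτ : Function.Surjective τ) (R : RootFacts σ D) {a b : Fin m}
    (hab : a ≠ b) : τ (zt D τ hτ a b) = D.z a 1 := by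
  unfold zt
  rw [map_mul, map_inv, map_lc, map_cT D τ hτ R hab, commutatorElement_def,
    R.x_z a b hab 1 one_ne_zero, mul_inv_cancel_right]
  have h := R.Q_comm _ (R.c_mem a b hab 1) _ (R.z_mem a)
  rw [h.eq, mul_inv_cancel_right]

/-- second-level facts: a coherent family `zT` of lifts of the long root elements -/
structure ZFacts (τ : Γ →* G) (hτ : Function.Surjective τ) (zT : Fin m → Γ) : Prop where
  map_zT : ∀ a : Fin m, τ (zT a) = D.z a 1
  /-- (C1) -/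
  c1 : ∀ a b : Fin m, a ≠ b → ∀ t : K, t ≠ 0 →
    lc hτ (D.x a b t) (D.z b 1) = cT D τ a b t * zT a
  /-- (C3) -/
  c3 : ∀ a b : Fin m, a ≠ b → ∀ (t u : K) (g : Γ), τ g = D.x a b t →
    g * cT D τ a b u * g⁻¹ = cT D τ a b u ∨ g * cT D τ a b u * g⁻¹ = cT D τ a b u * zT a

/-- the complement -/
def Cq (τ : Γ →* G) (zT : Fin m → Γ) : Subgroup Γ := Csh D τ ⊔ Subgroup.closure (Set.range zT)


end Cfsg.Agent.Helper23.PsuOs
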